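import Cfsg.Agent.H214.OT.EndL
import Cfsg.Agent.H186.OT.EvenEnv

/-!
# S2539, `q` even, `S_F = ∅`: the final assembly (helper186)
-/

set_option autoImplicit false

namespace Cfsg.Agent.H186.OT

open Subgroup Cfsg.Lie Cfsg.Lie.ChevalleyDatum Cfsg.Agent.H412.OT

universe u

variable {D : ChevalleyDatum} {K : Type u} [Field K] {F : Subgroup (GL D.Idx K)}

/-- **`q` even, `S_F = ∅`** -/
theorem empty_even [Fintype K] [CharP K 2] (hy : Hyp K 2 D) (h : MinBad D K F) (he : SF D K F = ∅) : False := by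
  obtain ⟨l, Mc, k, d⟩ := H712.OT.exists_dat hy h he
  obtain ⟨L, E⟩ := exists_env d
  exact H214.OT.end_l d.ctx E d.k4 d.card

end Cfsg.Agent.H186.OT
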