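import Cfsg.Agent.H186.OT.Odd
import Cfsg.Agent.H412.OT.NoLong
import Cfsg.Agent.H650.OT.Asm
import Cfsg.Agent.H460.OT.Short
import Cfsg.Agent.H28.OT.CaseA

/-!
# S2539: the case distinction (helper186)

`no_minBad_of` : there is no least bad group, from the remaining cases: `q` even and `S_F = ∅`; `S_F = {± s}`;
`S_F = {± a, c, c - a}`; `S_F` a short `A₂`.
-/

set_option autoImplicit false

namespace Cfsg.Agent.H186.OT

open Subgroup Cfsg.Lie Cfsg.Lie.ChevalleyDatum Cfsg.Agent.H412.OT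

universe u

variable {D : ChevalleyDatum} {K : Type u} [Field K]

theorem no_minBad_of [Fintype K] {p : ℕ} [Fact p.Prime] [CharP K p] (hy : Hyp K p D)
    (hev : p = 2 → ∀ F : Subgroup (GL D.Idx K), MinBad D K F → SF D K F = ∅ → False)
    (hpm : (D = chevF4 ∨ D = chevG2) → ∀ F : Subgroup (GL D.Idx K), MinBad D K F → ∀ s < D.nroots, ¬ IsLong D s →
      SF D K F = {s, D.neg s} → False)
    (hmix : D = chevF4 → ∀ F : Subgroup (GL D.Idx K), MinBad D K F → ∀ a c d : ℕ, pr D a c = 1 → pr D c a = 1 →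
      D.chainRoot (D.neg a) c 1 = some d → SF D K F = {a, D.neg a, c, d} → D.neg c ∉ SF D K F → D.neg d ∉ SF D K F →
      (∀ r ∈ SF D K F, ¬ IsLong D r) → False)
    (hA2 : D = chevF4 → ∀ F : Subgroup (GL D.Idx K), MinBad D K F → ∀ a c d : ℕ, pr D a c = 1 → pr D c a = 1 →
      D.chainRoot (D.neg a) c 1 = some d → SF D K F = {a, D.neg a, c, D.neg c, d, D.neg d} →
      (∀ r ∈ SF D K F, ¬ IsLong D r) → False)
    (F : Subgroup (GL D.Idx K)) : ¬ MinBad D K F := by
  intro hF
  rcases (SF D K F).eq_empty_or_nonempty with he | hne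
  · by_cases hp : p = 2
    · exact hev hp F hF he
    · exact empty_odd hy hp hF he
  · have hns : ∀ r ∈ SF D K F, ¬ IsLong D r := fun r hr hl => not_mem_SF_of_long hy hF hl hr
    have hm := hy.mem
    by_cases hD : D = chevF4 ∨ D = chevG2
    · have hcl : Closed D (SF D K F) := H650.OT.SF_closed hy hF.le
      have hSh : H460.OT.Short.Sh D (SF D K F) := ⟨fun r hr => hr.1, hcl, hns⟩
      rcases H460.OT.Short.short_cases hD hSh with h1 | ⟨a, ha, h1⟩ | ⟨h4, a, c, d, h1, h2, h3, h5, h6, h7⟩ |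
        ⟨h4, a, c, d, h1, h2, h3, h5⟩
      · exact H28.OT.caseA hy hD hF hcl hne h1
      · exact hpm hD F hF a ha.1 (hns a ha) h1
      · exact hmix h4 F hF a c d h1 h2 h3 h5 h6 h7 hns
      · exact hA2 h4 F hF a c d h1 h2 h3 h5 hns
    · obtain ⟨r, hr⟩ := hne
      refine hns r hr (H428.OT.isLong_of_mem ?_ hr.1)
      simp only [List.mem_cons, List.not_mem_nil, or_false] at hm ⊢
      tauto

end Cfsg.Agent.H186.OT
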