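import Cfsg.Agent.H186.OT.Pair
import Cfsg.Agent.H501.OT.Inst
import Cfsg.Agent.H876.OT.NoEl
import Cfsg.Agent.H18.OT.G2
import Cfsg.Agent.H181.OT.EmptyOdd

/-!
# S2539, `q` odd, `S_F = ∅`: the final assembly (helper186)

`empty_odd` : a least bad group `F` in odd characteristic contains a root subgroup.
-/

set_option autoImplicit false

namespace Cfsg.Agent.H186.OT

open Subgroup Cfsg.Lie Cfsg.Lie.ChevalleyDatum Cfsg.Agent.H412.OT

universe u

variable {D : ChevalleyDatum} {K : Type u} [Field K] {F : Subgroup (GL D.Idx K)}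

/-- two independent, non-orthogonal roots in `Ψ` -/
theorem exists_pair' [Fintype K] {p : ℕ} (hy : Hyp K p D) (h : MinBad D K F) (he : SF D K F = ∅) :
    ∃ a ∈ Psi D K F, ∃ b ∈ Psi D K F, b ≠ a ∧ b ≠ D.neg a ∧ pr D a b ≠ 0 := by
  have hc := hy.card
  refine exists_pair hy h he ?_ ?_ (H501.OT.fle_GS hy h he) (H501.OT.fPsi_nonempty hy h he)
  · intro g hg hN
    exact H428.OT.lt_tor_norm (by omega) hy.mem (h.le hg) hN
  · intro x hx hxt
    exact H428.OT.mem_tor_of_comm (by omega) hy.inList (h.le hx) hxt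

/-- `N_F(T)` acts on the roots -/
theorem act [Fintype K] {p : ℕ} (hy : Hyp K p D) (h : MinBad D K F) {n : GL D.Idx K} (hn : n ∈ F)
    (hN : n ∈ normalizer (D.diagonalSubgroup K : Set (GL D.Idx K))) :
    ∃ w : Equiv.Perm (Fin D.nroots), (∀ r s : Fin D.nroots, pr D (w r) (w s) = pr D r s) ∧
      ∀ t ∈ D.diagonalSubgroup K, ∀ s : Fin D.nroots,
        H412.OT.chi D K (n * t * n⁻¹) (w s) = H412.OT.chi D K t s := by
  have hc := hy.card
  have hm := H3.OT.mem_monomial_of_norm hy.inList (by rw [Nat.card_eq_fintype_card]; omega) (h.le hn) hN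
  refine ⟨Cfsg.Agent.ChevalleyStructure.NPerm.permHom hy.inList K ⟨n, hm⟩, H3.OT.pr_perm hy.inList ⟨n, hm⟩,
    fun t ht s => H3.OT.chi_perm hy.inList ⟨n, hm⟩ ht s⟩

theorem two_ne_zero_of [Fintype K] {p : ℕ} [Fact p.Prime] [CharP K p] (hp : p ≠ 2) : (2 : K) ≠ 0 := by
  intro h4
  have h5 : ((2 : ℕ) : K) = 0 := by exact_mod_cast h4
  rw [CharP.cast_eq_zero_iff K p] at h5
  exact hp ((Nat.prime_dvd_prime_iff_eq Fact.out Nat.prime_two).1 h5)

theorem noElF_two [Fintype K] {p : ℕ} (hy : Hyp K p D) (h2 : (2 : K) ≠ 0) (h : MinBad D K F)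
    (he : SF D K F = ∅) : NoElF D K F 2 := by
  have hc := hy.card
  have hm := hy.mem
  simp only [List.mem_cons, List.not_mem_nil, or_false] at hm
  by_cases hG : D = chevG2
  · subst hG
    refine H18.OT.Sit.noEl_two (H18.OT.Sit.of_ctx hc h.tor (H501.OT.fctx hy h he) ?_ ?_) h2
    · intro n hn hN
      obtain ⟨w, hw1, hw2⟩ := act hy h hn hN
      exact ⟨w, ⟨hw1, hw2⟩⟩
    · intro r
      obtain ⟨a, ha, b, hb, h1, h3, h4⟩ := exists_pair' hy h he
      by_contra hcon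
      push Not at hcon
      rcases H18.OT.tab_ev r ⟨a, ha.1⟩ ⟨b, hb.1⟩ (hcon _ ha) (hcon _ hb) h4 with h5 | h5
      · exact h1 (congrArg Fin.val h5)
      · apply h3
        rw [H18.OT.tab_neg_eq ⟨a, ha.1⟩]
        exact congrArg Fin.val h5
  · refine H876.OT.noEl_two (by unfold H876.OT.Five; tauto) hc h2 h he ?_ ?_ ?_ (exists_pair' hy h he)
    · intro g hg hN
      exact H428.OT.lt_tor_norm (by omega) hy.mem (h.le hg) hN
    · intro n hn hN
      obtain ⟨w, hw1, hw2⟩ := act hy h hn hN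
      exact ⟨w, ⟨hw1, hw2⟩⟩
    · intro x hx hxt
      exact H428.OT.mem_tor_of_comm (by omega) hy.inList (h.le hx) hxt

/-- **`q` odd, `S_F = ∅`** -/
theorem empty_odd [Fintype K] {p : ℕ} [Fact p.Prime] [CharP K p] (hy : Hyp K p D) (hp : p ≠ 2)
    (h : MinBad D K F) (he : SF D K F = ∅) : False :=
  H181.OT.empty_odd hy hp h (H501.OT.fctx hy h he) (noElF_two hy (two_ne_zero_of hp) h he) (exists_pair' hy h he)

end Cfsg.Agent.H186.OT
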